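import Cfsg.Agent.H585.BD.Card
import Cfsg.Agent.H158.DlRows
import Cfsg.Agent.S2103
import Cfsg.Agent.S2104
import Cfsg.Agent.S2105
import Cfsg.Agent.S2106
import Cfsg.Agent.S2107
import Cfsg.Agent.S2108
import Cfsg.Agent.S2109
import Cfsg.Agent.S2114
import Cfsg.Agent.H523.FpfChev
import Cfsg.Agent.H523.FpfCycFam
import Cfsg.Agent.H493.NCRow.OutTwE6
import Cfsg.Agent.H295.FourOutChev
import Cfsg.Agent.H487.SchurMult

/-!
# S4932: the tame rows of the exceptional groups in cross characteristic (helper790)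

`F₄`, `²F₄` (`p ≥ 3`), `E₆`, `²E₆`, `E₇`, `E₈` (`p ≥ 5`), `p ∤ q`: derived length at most two, no `p`-cover, abelian
`p`-subgroups of the outer automorphism group.
-/

set_option autoImplicit false

namespace Cfsg.Agent.H790.BD

open Cfsg Cfsg.Lie Cfsg.Agent.H246.Dl Cfsg.Agent.H589.BD Cfsg.Agent.H585.BD
open scoped commutatorElement

universe u v w

/-! ### outer automorphism groups -/

section out

variable {p : ℕ} [hp : Fact p.Prime]

theorem order_pow {O : Type*} [Group O] {R : Subgroup O} (hR : IsPGroup p R) {x : O} (hx : x ∈ R) {n : ℕ} (hn : ¬ p ∣ n)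
    (h : x ^ n = 1) : x = 1 := by
  obtain ⟨k, hk⟩ := hR ⟨x, hx⟩
  have hk' : x ^ p ^ k = 1 := by simpa using congrArg Subtype.val hk
  have h1 : orderOf x ∣ 1 := by
    have h2 : Nat.Coprime (p ^ k) n := Nat.Coprime.pow_left k ((Nat.Prime.coprime_iff_not_dvd hp.out).2 hn)
    rw [← h2]
    exact Nat.dvd_gcd (orderOf_dvd_of_pow_eq_one hk') (orderOf_dvd_of_pow_eq_one h)
  exact orderOf_eq_one_iff.1 (Nat.dvd_one.1 h1)

theorem comm_of_filtration {O : Type*} [Group O] [Finite O] {D E : Subgroup O} (hE : E.Normal)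
    (hcomm : ∀ x ∈ E, ∀ y ∈ E, ⁅x, y⁆ ∈ D) (hpD : ¬ p ∣ Nat.card D) (hpE : ¬ p ∣ E.index) (R : Subgroup O)
    (hR : IsPGroup p R) {x : O} (hx : x ∈ R) {y : O} (hy : y ∈ R) : x * y = y * x := by
  have key : ∀ z ∈ R, z ∈ E := by
    intro z hz
    have h1 : IsPGroup p (R.map (QuotientGroup.mk' E)) := hR.map _
    have h2 : QuotientGroup.mk' E z = 1 := by
      refine order_pow h1 (Subgroup.mem_map_of_mem _ hz) hpE ?_
      rw [Subgroup.index_eq_card]
      exact pow_card_eq_one'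
    exact (QuotientGroup.eq_one_iff z).1 h2
  rw [← commutatorElement_eq_one_iff_mul_comm]
  refine order_pow hR (R := R) ?_ hpD ?_
  · rw [commutatorElement_def]
    exact mul_mem (mul_mem (mul_mem hx hy) (inv_mem hx)) (inv_mem hy)
  · have h1 := pow_card_eq_one' (x := (⟨⁅x, y⁆, hcomm x (key x hx) y (key y hy)⟩ : D))
    exact congrArg Subtype.val h1

theorem outAb_of_filtration {S : Type u} [Group S] [Finite (Out S)] {D E : Subgroup (Out S)} (hE : E.Normal)
    (hcomm : ∀ x ∈ E, ∀ y ∈ E, ⁅x, y⁆ ∈ D) (hpD : ¬ p ∣ Nat.card D) (hpE : ¬ p ∣ E.index) : OutAb p S :=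
  outAb_of_hom (QuotientGroup.mk' (Inn S)) (fun a ha => (QuotientGroup.eq_one_iff a).1 ha)
    (fun R hR _ hx _ hy => comm_of_filtration hE hcomm hpD hpE R hR hx hy)

/-- a normal subgroup with cyclic quotient -/
theorem outAb_of_quotient {S : Type u} [Group S] [Finite (Out S)] {D : Subgroup (Out S)} [D.Normal]
    (hc : IsCyclic (Out S ⧸ D)) (hpD : ¬ p ∣ Nat.card D) : OutAb p S := by
  refine outAb_of_filtration (E := ⊤) inferInstance (fun x _ y _ => ?_) hpD ?_
  · rw [← QuotientGroup.eq_one_iff]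
    have h1 : ((⁅x, y⁆ : Out S) : Out S ⧸ D) = ⁅(x : Out S ⧸ D), (y : Out S ⧸ D)⁆ := map_commutatorElement (QuotientGroup.mk' D) x y
    rw [h1, commutatorElement_eq_one_iff_mul_comm]
    exact (IsCyclic.isMulCommutative (α := Out S ⧸ D)).is_comm.comm _ _
  · rw [Subgroup.index_top]
    exact hp.out.one_lt.ne' ∘ Nat.dvd_one.1

omit hp in
theorem outAb_of_cycOut {S : Type u} [Group S] (h : H523.CycOut S) : OutAb p S := by
  refine outAb_of_comm fun x y => ?_
  have hc : IsCyclic (Out S) := by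
    obtain ⟨β, h⟩ := h
    refine ⟨⟨(β : Out S), fun x => ?_⟩⟩
    obtain ⟨α, rfl⟩ := QuotientGroup.mk_surjective x
    obtain ⟨g, k, rfl⟩ := h α
    refine Subgroup.mem_zpowers_iff.2 ⟨k, ?_⟩
    have h1 : ((MulAut.conj g : MulAut S) : Out S) = 1 := (QuotientGroup.eq_one_iff _).2 ⟨g, rfl⟩
    rw [QuotientGroup.mk_mul, h1, one_mul, QuotientGroup.mk_zpow]
  exact (IsCyclic.isMulCommutative (α := Out S)).is_comm.comm _ _

open Cfsg.Agent.H442.OutCyc Cfsg.Agent.ChevalleyStructure Cfsg.Agent.ChevalleyStructure.Elts in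
/-- the Chevalley groups -/
theorem outAb_chev {D : ChevalleyDatum} (hD : InList D) (hD' : D ∈ [chevG2, chevB2, chevF4, chevE6, chevE7, chevE8])
    (F : Type u) [Field F] [Finite F] (h3 : 3 ≤ p) {d : ℕ}
    (h : d * Nat.card (D.diagonalSubgroup F) = (Nat.card F - 1) ^ D.rank) (hd : d < p) : OutAb p ↥(D.group F) := by
  obtain ⟨h1, -, hc, h2, -⟩ := structure_out hD F
  have hfin : Finite (Out ↥(D.group F)) := inferInstance
  refine outAb_of_filtration (D := DB hD F) (E := DB hD F ⊔ FB hD F) h2 ?_ ?_ ?_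
  · intro x hx y hy
    obtain ⟨a, ha, b, hb, rfl⟩ := Subgroup.mem_sup_of_normal_left.1 hx
    obtain ⟨a', ha', b', hb', rfl⟩ := Subgroup.mem_sup_of_normal_left.1 hy
    rw [← QuotientGroup.eq_one_iff]
    have e1 : (((a * b : Out ↥(D.group F))) : Out ↥(D.group F) ⧸ DB hD F) = (b : Out ↥(D.group F) ⧸ DB hD F) := by
      rw [QuotientGroup.mk_mul, (QuotientGroup.eq_one_iff a).2 ha, one_mul]
    have e2 : (((a' * b' : Out ↥(D.group F))) : Out ↥(D.group F) ⧸ DB hD F) = (b' : Out ↥(D.group F) ⧸ DB hD F) := by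
      rw [QuotientGroup.mk_mul, (QuotientGroup.eq_one_iff a').2 ha', one_mul]
    have h3 : ((⁅a * b, a' * b'⁆ : Out ↥(D.group F)) : Out ↥(D.group F) ⧸ DB hD F) =
        ⁅((a * b : Out ↥(D.group F)) : Out ↥(D.group F) ⧸ DB hD F), ((a' * b' : Out ↥(D.group F)) : Out ↥(D.group F) ⧸ DB hD F)⁆ :=
      map_commutatorElement (QuotientGroup.mk' (DB hD F)) _ _
    rw [h3, e1, e2, commutatorElement_eq_one_iff_mul_comm, ← QuotientGroup.mk_mul, ← QuotientGroup.mk_mul]
    have h4 := congrArg Subtype.val ((IsCyclic.isMulCommutative (α := FB hD F)).is_comm.comm ⟨b, hb⟩ ⟨b', hb'⟩)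
    exact congrArg _ h4
  · intro h3
    have h4 := Nat.le_of_dvd Nat.card_pos h3
    have h5 := card_DB_le hD F h
    omega
  · have h3 : (DB hD F ⊔ FB hD F).index ≤ 2 := by
      rcases H295.FourOutChev.index_DF hD hD' F with h4 | h4 <;> omega
    intro h4
    have h5 := Nat.le_of_dvd (Nat.pos_of_ne_zero Subgroup.index_ne_zero_of_finite) h4
    omega

end out

section rows

theorem noCover_of_equiv {S : Type u} [Group S] {p : ℕ} [Fact p.Prime] {T : Type v} [Group T] (e : S ≃* T) {n : ℕ}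
    (h : HasCyclicSchurMultiplier T n) (hn : ¬ p ∣ n) : NoCover p S :=
  noCover_of_cyclic (H487.HasSchurMultiplier.congr_left h e.symm) hn

theorem not_dvd_gcd {p k m : ℕ} (hk : 0 < k) (h : k < p) : ¬ p ∣ Nat.gcd k m := fun h0 => by
  have h1 := Nat.le_of_dvd (Nat.gcd_pos_of_pos_left _ hk) h0
  have h2 := Nat.gcd_le_left m hk
  omega

variable {S : Type u} [Group S] [Finite S] [IsSimpleGroup S] (hna : ¬ IsMulCommutative S) {F : Type v} [Field F]
  [Fintype F] {p : ℕ} (hp : p.Prime)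

include hna hp

/-- `F₄(q)`, `p ≥ 3` -/
theorem tame_F4 (e : S ≃* ↥(chevF4.group F)) (h3 : 3 ≤ p) (hpF : ¬ p ∣ Fintype.card F) : Tame p S := by
  have := Fact.mk hp
  have hn : NoCover p S := by
    rcases Nat.lt_or_ge (Fintype.card F) 3 with h | h
    · have h1 := Fintype.one_lt_card (α := F)
      exact noCover_of_equiv e (Cfsg.Agent.S2104.result (F := F) (by omega))
        (fun h0 => by have := Nat.le_of_dvd (by norm_num) h0; omega)
    · exact noCover_of_equiv e (Cfsg.Agent.S2103.result h) (fun h0 => by have := Nat.le_of_dvd (by norm_num) h0; omega)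
  exact tame_noCover (center_simple hna) hn ((Cfsg.Agent.H158.DlRows.dl_F4 e hp hpF).2 h3)
    (outAb_of_cycOut (H523.CycOut.congr e.symm H523.Chev.cycOut_F4))

/-- `E₆(q)`, `p ≥ 5` -/
theorem tame_E6 (e : S ≃* ↥(chevE6.group F)) (h5 : 5 ≤ p) (hpF : ¬ p ∣ Fintype.card F) : Tame p S := by
  have := Fact.mk hp
  have h1 := S1035.result (F := F) (q := Fintype.card F) rfl (chevE6, Nat.gcd 3 (Fintype.card F - 1)) (by simp)
  have h2 := Nat.gcd_le_left (Fintype.card F - 1) (m := 3) (by norm_num)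
  refine tame_noCover (center_simple hna) (noCover_of_equiv e (Cfsg.Agent.S2105.result rfl) (not_dvd_gcd (by norm_num) (by omega)))
    ((Cfsg.Agent.H158.DlRows.dl_E6 e hp hpF).2.2 h5) (OutAb.congr e (outAb_chev H70.OutE.inList_E6 (by simp) F (by omega) (d := Nat.gcd 3 (Fintype.card F - 1)) ?_ (by omega)))
  rw [Nat.card_eq_fintype_card (α := F)]
  exact h1

/-- `E₇(q)`, `p ≥ 5` -/
theorem tame_E7 (e : S ≃* ↥(chevE7.group F)) (h5 : 5 ≤ p) (hpF : ¬ p ∣ Fintype.card F) : Tame p S := by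
  have := Fact.mk hp
  have h1 := S1035.result (F := F) (q := Fintype.card F) rfl (chevE7, Nat.gcd 2 (Fintype.card F - 1)) (by simp)
  have h2 := Nat.gcd_le_left (Fintype.card F - 1) (m := 2) (by norm_num)
  refine tame_noCover (center_simple hna) (noCover_of_equiv e (Cfsg.Agent.S2106.result rfl) (not_dvd_gcd (by norm_num) (by omega)))
    ((Cfsg.Agent.H158.DlRows.dl_E7 e hp hpF).2.2 h5) (OutAb.congr e (outAb_chev H70.OutE.inList_E7 (by simp) F (by omega) (d := Nat.gcd 2 (Fintype.card F - 1)) ?_ (by omega)))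
  rw [Nat.card_eq_fintype_card (α := F)]
  exact h1

/-- `E₈(q)`, `p ≥ 5` -/
theorem tame_E8 (e : S ≃* ↥(chevE8.group F)) (h5 : 5 ≤ p) (hpF : ¬ p ∣ Fintype.card F) : Tame p S := by
  have := Fact.mk hp
  exact tame_noCover (center_simple hna) (noCover_of_equiv e Cfsg.Agent.S2107.result (fun h0 => hp.one_lt.ne' (Nat.dvd_one.1 h0)))
    ((Cfsg.Agent.H158.DlRows.dl_E8 e hp hpF).2.2 h5) (outAb_of_cycOut (H523.CycOut.congr e.symm H523.Chev.cycOut_E8))

/-- `²E₆(q)`, `p ≥ 5` -/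
theorem tame_2E6 {q : ℕ} (hq : IsPrimePow q) (hF : Fintype.card F = q ^ 2) (e : S ≃* ↥(twistedE6 F q)) (h5 : 5 ≤ p)
    (hpF : ¬ p ∣ Fintype.card F) : Tame p S := by
  have := Fact.mk hp
  have hn : NoCover p S := by
    by_cases h2 : q = 2
    · subst h2
      refine noCover_of_mult (H487.HasSchurMultiplier.congr_left (Cfsg.Agent.S2109.result (K := F) (by rw [hF]; norm_num)) e.symm) ?_
      have h1 : Nat.card (Multiplicative (ZMod 3 × ZMod 2 × ZMod 2)) = 12 := by
        rw [Nat.card_congr Multiplicative.toAdd, Nat.card_prod, Nat.card_prod, Nat.card_zmod, Nat.card_zmod]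
      rw [h1]
      intro h0
      have h2 := (Nat.Prime.dvd_mul hp).1 (show p ∣ 4 * 3 from h0)
      rcases h2 with h2 | h2
      · have := Nat.le_of_dvd (by norm_num) h2; omega
      · have := Nat.le_of_dvd (by norm_num) h2; omega
    · exact noCover_of_equiv e (Cfsg.Agent.S2108.result hq hF h2) (not_dvd_gcd (by norm_num) (by omega))
  obtain ⟨N, hN, hNc, hNq⟩ := H493.NCRow.exists_N_TwE6 hq hF
  have hfin : Finite (Out ↥(twistedE6 F q)) := inferInstance
  refine tame_noCover (center_simple hna) hn ((Cfsg.Agent.H158.DlRows.dl_2E6 e hp hpF).2.2 h5)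
    (OutAb.congr e (outAb_of_quotient hNq ?_))
  rw [hNc]
  exact not_dvd_gcd (by norm_num) (by omega)

omit [Finite S] in
/-- `²F₄(q)`, `p ≥ 3` -/
theorem tame_2F4 [Finite S] (h : Iso2F4 S) (h3 : 3 ≤ p) : Tame p S := by
  have := Fact.mk hp
  have hn : NoCover p S := by
    obtain ⟨K, _, _, m, hm, hK, ⟨e⟩⟩ := h
    exact noCover_of_equiv e (Cfsg.Agent.S2114.result hm hK) (fun h0 => hp.one_lt.ne' (Nat.dvd_one.1 h0))
  exact tame_noCover (center_simple hna) hn (Cfsg.Agent.H158.DlRows.dl_iso2F4 h hp h3)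
    (outAb_of_cycOut (H523.cycOut_twF4 h))

end rows

end Cfsg.Agent.H790.BD
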